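import Groth.Prelude.Def_RedSub
import Groth.Agent.FppfSource.Scheme
import Groth.Agent.Bootstrap.Tools
import Mathlib.AlgebraicGeometry.Sites.Fpqc

/-!
# Formal properties of quotients by subgroups
-/

set_option autoImplicit false
set_option linter.style.haveILetI false
set_option backward.isDefEq.respectTransparency false
set_option synthInstance.maxHeartbeats 400000
set_option maxHeartbeats 1000000

universe u

open CategoryTheory Limits MonoidalCategory CartesianMonoidalCategory MonObj GrpObj AlgebraicGeometry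
open scoped CategoryTheory.Obj

noncomputable section

namespace Groth.Agent.QuotFormal

variable {S : Scheme.{u}} {A B Z : Over S}

/-- An fppf covering is an effective epimorphism of `S`-schemes. -/
theorem exists_desc (f : A ⟶ B) [Surjective f.left] [Flat f.left] [LocallyOfFinitePresentation f.left] (x : A ⟶ Z)
    (h : ∀ (X : Over S) (a b : X ⟶ A), a ≫ f = b ≫ f → a ≫ x = b ≫ x) : ∃ y : B ⟶ Z, f ≫ y = x := by
  have h' : ∀ {W : Scheme.{u}} (a b : W ⟶ A.left), a ≫ f.left = b ≫ f.left → a ≫ x.left = b ≫ x.left :=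
    fun {W} a b e => by
      have hb : b ≫ A.hom = a ≫ A.hom := by rw [← Over.w f, ← Category.assoc, ← e, Category.assoc]
      exact congrArg (fun q => q.left)
        (h (Over.mk (a ≫ A.hom)) (Over.homMk a) (Over.homMk b hb) (Over.OverMorphism.ext e))
  obtain ⟨y, hy⟩ : ∃ y : B.left ⟶ Z.left, f.left ≫ y = x.left :=
    ⟨EffectiveEpi.desc f.left x.left h', EffectiveEpi.fac f.left x.left h'⟩
  refine ⟨Over.homMk y ?_, Over.OverMorphism.ext hy⟩
  rw [← cancel_epi f.left, ← Category.assoc, hy, Over.w, Over.w]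

/-- An fppf covering is an epimorphism of `S`-schemes. -/
theorem epi_of_fppf (f : A ⟶ B) [Surjective f.left] [Flat f.left] [LocallyOfFinitePresentation f.left] : Epi f :=
  ⟨fun a b h => Over.OverMorphism.ext ((cancel_epi f.left).1 (congrArg (fun q => q.left) h))⟩

/-- Factorisations through a monomorphism descend along fppf coverings. -/
theorem exists_fac_of_fppf {T : Over S} (t : T ⟶ Z) [Mono t] (f : A ⟶ B) [Surjective f.left] [Flat f.left]
    [LocallyOfFinitePresentation f.left] (x : B ⟶ Z) (h : ∃ z, z ≫ t = f ≫ x) : ∃ y, y ≫ t = x := by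
  obtain ⟨z, hz⟩ := h
  obtain ⟨y, hy⟩ := exists_desc f z fun X a b e => by
    rw [← cancel_mono t, Category.assoc, Category.assoc, hz, reassoc_of% e]
  haveI := epi_of_fppf f
  exact ⟨y, by rw [← cancel_epi f, ← Category.assoc, hy, hz]⟩

/-- Points lift along an fppf covering after an fppf covering. -/
theorem exists_lift_cover {X : Over S} (f : A ⟶ B) [Surjective f.left] [Flat f.left]
    [LocallyOfFinitePresentation f.left] (x : X ⟶ B) :
    ∃ (X' : Over S) (π : X' ⟶ X) (a : X' ⟶ A), Surjective π.left ∧ Flat π.left ∧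
      LocallyOfFinitePresentation π.left ∧ a ≫ f = π ≫ x := by
  let p : pullback x.left f.left ⟶ X.left := pullback.fst _ _
  let π : Over.mk (p ≫ X.hom) ⟶ X := Over.homMk p
  refine ⟨Over.mk (p ≫ X.hom), π, Over.homMk (pullback.snd _ _) ?_,
    (inferInstance : Surjective p), (inferInstance : Flat p), (inferInstance : LocallyOfFinitePresentation p),
    Over.OverMorphism.ext pullback.condition.symm⟩
  show pullback.snd x.left f.left ≫ A.hom = p ≫ X.hom
  rw [← Over.w f, ← Over.w x, pullback.condition_assoc]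

/-- Points with a common image differ by a point of the subgroup. -/
theorem exists_of_eq {G H Q X : Over S} [GrpObj G] {i : H ⟶ G} {q : G ⟶ Q} (hq : RedSub.IsQuotient i q)
    (a b : X ⟶ G) (h : a ≫ q = b ≫ q) : ∃ w : X ⟶ H, b = a * (w ≫ i) := by
  obtain ⟨l, hl₁, hl₂⟩ := hq.2.2.2.exists_lift a b h
  refine ⟨l ≫ snd G H, ?_⟩
  rw [← hl₂, ← hl₁, Hom.mul_def]
  simp only [← Category.assoc]
  congr 1
  apply CartesianMonoidalCategory.hom_ext <;> simp

/-- Points differing by a point of the subgroup have a common image. -/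
theorem eq_of_mul {G H Q X : Over S} [GrpObj G] {i : H ⟶ G} {q : G ⟶ Q} (hq : RedSub.IsQuotient i q)
    (a : X ⟶ G) (w : X ⟶ H) : (a * (w ≫ i)) ≫ q = a ≫ q := by
  have h := congrArg (lift a w ≫ ·) hq.2.2.2.w
  simp only [lift_fst_assoc] at h
  rw [h, Hom.mul_def]
  simp only [← Category.assoc]
  congr 2
  apply CartesianMonoidalCategory.hom_ext <;> simp

/-- **A quotient by the preimage of a subgroup is the quotient of the quotient.** -/
theorem existsUnique_quotient_quotient {G D C T H Q : Over S} [GrpObj G] [GrpObj C] {d : D ⟶ G} (f₀ : G ⟶ C)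
    [IsMonHom f₀] (hquot : RedSub.IsQuotient d f₀) (t : T ⟶ C) [Mono t] {k : H ⟶ G} {g : H ⟶ T}
    (hsq : IsPullback k g f₀ t) {q : G ⟶ Q} (hq : RedSub.IsQuotient k q) (ht1 : ∃ e, e ≫ t = η[C]) :
    ∃! q' : C ⟶ Q, f₀ ≫ q' = q ∧ RedSub.IsQuotient t q' := by
  obtain ⟨hs, hf, hl, -⟩ := hquot
  haveI := hs; haveI := hf; haveI := hl; haveI := hq.1; haveI := hq.2.1; haveI := hq.2.2.1
  haveI := epi_of_fppf f₀
  obtain ⟨q', hq'⟩ := exists_desc f₀ q fun X a b e => by
    obtain ⟨e₀, he₀⟩ := ht1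
    let w : X ⟶ H := hsq.lift (a⁻¹ * b) (toUnit X ≫ e₀) (by
      rw [MonObj.mul_comp, GrpObj.inv_comp, e, inv_mul_cancel, Category.assoc, he₀, Hom.one_def])
    have := eq_of_mul hq a w
    rwa [IsPullback.lift_fst, mul_inv_cancel_left, eq_comm] at this
  haveI : Surjective (f₀.left ≫ q'.left) := by rw [← Over.comp_left, hq']; infer_instance
  haveI : Flat (f₀.left ≫ q'.left) := by rw [← Over.comp_left, hq']; infer_instance
  haveI : LocallyOfFinitePresentation (f₀.left ≫ q'.left) := by rw [← Over.comp_left, hq']; infer_instance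
  have hcomm : fst C T ≫ q' = ((C ◁ t) ≫ μ[C]) ≫ q' := by
    obtain ⟨X₁, π₁, a, h₁s, h₁f, h₁l, ha⟩ := exists_lift_cover f₀ (fst C T)
    obtain ⟨X₂, π₂, b, h₂s, h₂f, h₂l, hb⟩ := exists_lift_cover f₀ (π₁ ≫ snd C T ≫ t)
    haveI := epi_of_fppf π₁; haveI := epi_of_fppf π₂
    rw [← cancel_epi π₁, ← cancel_epi π₂]
    let h : X₂ ⟶ H := hsq.lift b (π₂ ≫ π₁ ≫ snd C T) (by rw [hb]; simp only [Category.assoc])
    have e := eq_of_mul hq (π₂ ≫ a) h
    rw [IsPullback.lift_fst, ← hq', ← Category.assoc, ← Category.assoc _ f₀, MonObj.mul_comp, hb, Category.assoc π₂,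
      ha] at e
    have hm : (C ◁ t) ≫ μ[C] = fst C T * (snd C T ≫ t) := by
      rw [Hom.mul_def]
      congr 1
    rw [hm, ← Category.assoc π₁ (fst C T * (snd C T ≫ t)), ← Category.assoc π₂ (π₁ ≫ (fst C T * (snd C T ≫ t))),
      MonObj.comp_mul, MonObj.comp_mul]
    simpa only [Category.assoc] using e.symm
  have hiff : ∀ {X : Over S} (x y : X ⟶ C), x ≫ q' = y ≫ q' → ∃ s : X ⟶ T, y = x * (s ≫ t) := fun {X} x y h => by
    obtain ⟨X₁, π₁, a, h₁s, h₁f, h₁l, ha⟩ := exists_lift_cover f₀ x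
    obtain ⟨X₂, π₂, b, h₂s, h₂f, h₂l, hb⟩ := exists_lift_cover f₀ (π₁ ≫ y)
    obtain ⟨w, hw⟩ := exists_of_eq hq (π₂ ≫ a) b (by
      rw [← hq', reassoc_of% hb, Category.assoc, reassoc_of% ha, h])
    have e := congrArg (· ≫ f₀) hw
    simp only [MonObj.mul_comp, Category.assoc, hsq.w, ha, hb] at e
    obtain ⟨s₁, hs₁⟩ := exists_fac_of_fppf t π₂ (π₁ ≫ (x⁻¹ * y)) ⟨w ≫ g, by
      simp only [MonObj.comp_mul, GrpObj.comp_inv, e, Category.assoc, inv_mul_cancel_left]⟩
    obtain ⟨s, hs⟩ := exists_fac_of_fppf t π₁ (x⁻¹ * y) ⟨s₁, hs₁⟩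
    exact ⟨s, by rw [hs, mul_inv_cancel_left]⟩
  refine ⟨q', ⟨hq', Surjective.of_comp f₀.left q'.left, Bootstrap.flat_of_comp f₀.left q'.left,
    FppfSource.lfp f₀.left q'.left, ⟨⟨hcomm⟩, ⟨PullbackCone.IsLimit.mk _
      (fun c => lift c.fst (hiff c.fst c.snd c.condition).choose) (fun c => lift_fst _ _) (fun c => ?_)
      fun c l h1 h2 => ?_⟩⟩⟩, fun q₁ h => ?_⟩
  · have e := (hiff c.fst c.snd c.condition).choose_spec
    conv_rhs => rw [e, Hom.mul_def]
    rw [← Category.assoc]
    congr 1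
    apply CartesianMonoidalCategory.hom_ext <;> simp
  · apply CartesianMonoidalCategory.hom_ext
    · rw [lift_fst, h1]
    · rw [lift_snd, ← cancel_mono t]
      have e := (hiff c.fst c.snd c.condition).choose_spec
      have h3 : l ≫ (C ◁ t) ≫ μ[C] = c.fst * (l ≫ snd C T ≫ t) := by
        rw [← h1, Hom.mul_def, ← Category.assoc]
        congr 1
        apply CartesianMonoidalCategory.hom_ext <;> simp
      rw [h3, e] at h2
      rw [Category.assoc]
      exact mul_left_cancel h2
  · rw [← cancel_epi f₀, h.1, hq']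

end Groth.Agent.QuotFormal
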